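import Groth.Agent.H58.PushC.Normal
import Groth.Agent.H81.RelCodim

/-!
# Finiteness of `H^1_I(M)` over Nagata universally catenary rings
-/
set_option autoImplicit false
set_option linter.unusedSectionVars false
set_option linter.style.haveILetI false
universe u
open CategoryTheory

namespace Groth.Agent.H58.PushC

open Groth.Agent.H58.LC Groth.Agent.H58.LG

theorem finite_H1_of_nagata_uc (A : Type u) [CommRing A] [IsNoetherianRing A]
    (hN : CAlg.IsNagata A) (hU : CAlg.IsUniversallyCatenary A) (I : Ideal A) (M : Type u)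
    [AddCommGroup M] [Module A M] [Module.Finite A M]
    (h : ∀ (p q : PrimeSpectrum A) (hpq : p ≤ q), p.asIdeal ∈ associatedPrimes A M →
      ¬ I ≤ p.asIdeal → I ≤ q.asIdeal → (2 : ℕ∞) ≤ Order.height (⟨q, hpq⟩ : Set.Ici p)) :
    Module.Finite A (LocCoh.H I 1 M) := by
  refine (Groth.Agent.H58.H1Ass.good_iff I M).2 ?_
  intro p hp hIp
  haveI hpp : p.IsPrime := hp.isPrime
  obtain ⟨φ, hφ⟩ := indepProp (R := A) (R' := A ⧸ p) I 1 (A ⧸ p)
  haveI : Module.Finite (A ⧸ p) (LocCoh.H (I.map (algebraMap A (A ⧸ p))) 1 (A ⧸ p)) := by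
    haveI hfin : Module.Finite (A ⧸ p) (integralClosure (A ⧸ p) (FractionRing (A ⧸ p))) :=
      hN.2 p (FractionRing (A ⧸ p)) inferInstance
    haveI : IsIntegrallyClosed (integralClosure (A ⧸ p) (FractionRing (A ⧸ p))) :=
      integralClosure.isIntegrallyClosedOfFiniteExtension (FractionRing (A ⧸ p))
    refine finite_H1_of_normal_overring (A ⧸ p) (isUniversallyCatenary_quotient A hU p)
      (integralClosure (A ⧸ p) (FractionRing (A ⧸ p))) _ ?_
    rw [Ideal.height_eq_inf_minimalPrimes]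
    refine le_iInf₂ fun Q' hQ' => ?_
    haveI := hQ'.1.1
    let Q : PrimeSpectrum A := ⟨Q'.comap (Ideal.Quotient.mk p), Ideal.comap_isPrime _ _⟩
    let P : PrimeSpectrum A := ⟨p, hpp⟩
    have hPQ : P ≤ Q := by
      intro a ha
      show Ideal.Quotient.mk p a ∈ Q'
      rw [Ideal.Quotient.eq_zero_iff_mem.2 ha]
      exact Q'.zero_mem
    have hIQ : I ≤ Q.asIdeal := fun a ha => hQ'.1.2 (Ideal.mem_map_of_mem _ ha)
    have h2 := h P Q hPQ hp hIp hIQ
    rw [Groth.Agent.H81.RelCodim.height_Ici_eq] at h2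
    rwa [show Q.asIdeal.map (Ideal.Quotient.mk P.asIdeal) = Q' from
      Ideal.map_comap_of_surjective _ Ideal.Quotient.mk_surjective Q'] at h2
  exact Groth.Agent.H58.Kollar.finite_of_semilinear Ideal.Quotient.mk_surjective φ hφ

end Groth.Agent.H58.PushC
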