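import Groth.Agent.H58.PushC.Normal
import Groth.Agent.H58.Kollar.Complete
import Groth.Agent.H14.ZClos.DepthLocal

/-!
# Finiteness of the ring of sections over the complement of a closed set of codimension `≥ 2`
-/
set_option autoImplicit false
set_option linter.unusedSectionVars false
set_option linter.style.haveILetI false
universe u
open CategoryTheory

namespace Groth.Agent.H58.PushC

open Groth.Agent.H58.LC Groth.Agent.H58.LG

section RegularQuotient

theorem eq_bot_of_mem_associatedPrimes_self {B : Type u} [CommRing B] [IsDomain B]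
    [IsNoetherianRing B] (p : Ideal B)
    (hp : p ∈ associatedPrimes B B) : p = ⊥ := by
  obtain ⟨hprime, x, hx⟩ := (isAssociatedPrime_iff (M := B)).1 hp
  by_cases hx0 : x = 0
  · exfalso
    apply hprime.ne_top
    rw [hx, eq_top_iff]
    intro r _
    rw [Submodule.mem_colon_singleton, hx0, smul_zero]
    exact Submodule.zero_mem _
  · rw [eq_bot_iff]
    intro a ha
    rw [hx, Submodule.mem_colon_singleton, Submodule.mem_bot, smul_eq_mul] at ha
    rcases mul_eq_zero.1 ha with h | h
    · exact (Submodule.mem_bot B).2 h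
    · exact absurd h hx0

/-- Faltings: over a domain which is a quotient of a regular ring, `H^1_J` is finite when
`ht J ≥ 2` -/
theorem finite_H1_of_regular_quotient (R : Type u) [CommRing R] [IsRegularRing R]
    (B : Type u) [CommRing B] [IsDomain B] [IsNoetherianRing B] (π : R →+* B)
    (hπ : Function.Surjective π) (J : Ideal B) (hJ : (2 : ℕ∞) ≤ J.height) :
    Module.Finite B (LocCoh.H J 1 B) := by
  refine (Groth.Agent.H81.FaltingsFin.finite_iff_le_minAdjDepth R B π hπ J B 1).2
    ((Groth.Agent.H81.FaltingsFin.le_minAdjDepth_iff_covBy R B π hπ J B 1).2 ?_) 1 le_rfl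
  intro P Q hP hQ hPQ
  haveI := P.2
  haveI := Q.2
  rw [Nat.cast_one, Groth.Agent.H14.ZClos.one_le_depth_localization_iff B P.asIdeal]
  intro hass
  have hbot : P.asIdeal = ⊥ := eq_bot_of_mem_associatedPrimes_self _ hass
  -- then `ht Q ≤ 1`
  have hQ1 : Q.asIdeal.height ≤ ((1 : ℕ) : ℕ∞) := by
    rw [Ideal.height_le_iff]
    intro q' hq' hlt
    have hle : P ≤ (⟨q', hq'⟩ : PrimeSpectrum B) := by
      show P.asIdeal ≤ q'
      rw [hbot]
      exact bot_le
    have heq : P = ⟨q', hq'⟩ := by
      by_contra hne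
      exact hPQ.2 (lt_of_le_of_ne hle hne) hlt
    have : q' = ⊥ := by rw [← hbot, heq]
    rw [this, Ideal.height_bot]
    exact_mod_cast zero_lt_one
  have := (hJ.trans (Ideal.height_mono hQ)).trans hQ1
  exact absurd this (by decide)

end RegularQuotient

section Subalg
variable (B : Type u) [CommRing B] [IsDomain B] (J : Ideal B)

/-- the ring of sections of the structure sheaf over `Spec B ∖ V(J)`, inside the fraction field -/
def secSubalgebra : Subalgebra B (FractionRing B) where
  carrier := {x | ∀ (p : Ideal B) [p.IsPrime], ¬ J ≤ p →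
    ∃ s : B, s ∉ p ∧ ∃ a : B,
      algebraMap B (FractionRing B) a = algebraMap B (FractionRing B) s * x}
  mul_mem' := by
    intro x y hx hy p hp hJp
    obtain ⟨s, hs, a, ha⟩ := hx p hJp
    obtain ⟨t, ht, b, hb⟩ := hy p hJp
    refine ⟨s * t, fun h => (hp.mem_or_mem h).elim hs ht, a * b, ?_⟩
    rw [map_mul, map_mul, ha, hb]
    ring
  one_mem' := by
    intro p hp _
    exact ⟨1, (Ideal.ne_top_iff_one p).1 hp.ne_top, 1, by simp⟩
  add_mem' := by
    intro x y hx hy p hp hJp
    obtain ⟨s, hs, a, ha⟩ := hx p hJp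
    obtain ⟨t, ht, b, hb⟩ := hy p hJp
    refine ⟨s * t, fun h => (hp.mem_or_mem h).elim hs ht, t * a + s * b, ?_⟩
    rw [map_add, map_mul, map_mul, map_mul, ha, hb]
    ring
  zero_mem' := by
    intro p hp _
    exact ⟨1, (Ideal.ne_top_iff_one p).1 hp.ne_top, 0, by simp⟩
  algebraMap_mem' := by
    intro r p hp _
    exact ⟨1, (Ideal.ne_top_iff_one p).1 hp.ne_top, r, by simp⟩

theorem coe_secSubalgebra :
    (secSubalgebra B J : Set (FractionRing B)) =
      {x | ∀ (p : Ideal B) [p.IsPrime], ¬ J ≤ p →
        ∃ s : B, s ∉ p ∧ ∃ a : B,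
          algebraMap B (FractionRing B) a = algebraMap B (FractionRing B) s * x} := rfl

variable [IsNoetherianRing B]

theorem finite_secSubalgebra (hJ : J ≠ ⊥) (h : Module.Finite B (LocCoh.H J 1 B)) :
    Module.Finite B (secSubalgebra B J) := by
  have hinj : Function.Injective (algebraMap B (FractionRing B)) :=
    IsFractionRing.injective B (FractionRing B)
  refine finite_of_finite_H1 J B (secSubalgebra B J) (Algebra.linearMap B (secSubalgebra B J))
    ?_ ?_ ?_ h
  · intro m hm
    have h1 : algebraMap B (FractionRing B) m = 0 := by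
      have := congrArg (Subtype.val) hm
      simpa using this
    have h2 : m = 0 := hinj (by rw [h1, map_zero])
    exact ⟨0, fun b _ => by rw [h2, smul_zero]⟩
  · intro t
    -- the denominator ideal
    let D : Ideal B :=
      { carrier := {s | ∃ a : B, algebraMap B (FractionRing B) a =
          algebraMap B (FractionRing B) s * (t : FractionRing B)}
        add_mem' := by
          rintro s s' ⟨a, ha⟩ ⟨a', ha'⟩
          exact ⟨a + a', by rw [map_add, map_add, ha, ha']; ring⟩
        zero_mem' := ⟨0, by simp⟩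
        smul_mem' := by
          rintro c s ⟨a, ha⟩
          exact ⟨c * a, by rw [smul_eq_mul, map_mul, map_mul, ha]; ring⟩ }
    have hrad : J ≤ D.radical := by
      rw [Ideal.radical_eq_sInf]
      refine le_sInf ?_
      rintro p ⟨hDp, hp⟩
      by_contra hJp
      haveI := hp
      obtain ⟨s, hs, a, ha⟩ := t.2 p hJp
      exact hs (hDp ⟨a, ha⟩)
    obtain ⟨n, hn⟩ := Ideal.exists_pow_le_of_le_radical_of_fg hrad (IsNoetherian.noetherian J)
    refine ⟨n, fun b hb => ?_⟩
    obtain ⟨a, ha⟩ := hn hb
    refine ⟨a, ?_⟩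
    apply Subtype.ext
    show algebraMap B (FractionRing B) a = ((b • t : secSubalgebra B J) : FractionRing B)
    rw [ha, Subalgebra.coe_smul, Algebra.smul_def]
  · intro t n hn
    obtain ⟨x, hxJ, hx0⟩ := Submodule.exists_mem_ne_zero_of_ne_bot hJ
    have h1 := hn (x ^ n) (Ideal.pow_mem_pow hxJ n)
    have h2 : algebraMap B (FractionRing B) (x ^ n) * (t : FractionRing B) = 0 := by
      have := congrArg (Subtype.val) h1
      simpa [Algebra.smul_def] using this
    rcases mul_eq_zero.1 h2 with h3 | h3
    · exact absurd (hinj (by rw [h3, map_zero])) (pow_ne_zero n hx0)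
    · exact Subtype.ext h3

end Subalg

section Main

theorem exists_finite_secSubalgebra (A : Type u) [CommRing A] [IsNoetherianRing A]
    (hA : (∃ (R : Type u) (_ : CommRing R), IsNoetherianRing R ∧ IsRegularRing R ∧
        ∃ f : R →+* A, Function.Surjective f) ∨
      (CAlg.IsUniversallyCatenary A ∧ CAlg.IsUniversallyJapanese A))
    (q : Ideal A) [q.IsPrime] (J : Ideal (A ⧸ q)) (hJ2 : (2 : ℕ∞) ≤ J.height) :
    ∃ B' : Subalgebra (A ⧸ q) (FractionRing (A ⧸ q)),
      (B' : Set (FractionRing (A ⧸ q))) =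
          {x | ∀ (p : Ideal (A ⧸ q)) [p.IsPrime], ¬ J ≤ p →
            ∃ s : A ⧸ q, s ∉ p ∧ ∃ a : A ⧸ q,
              algebraMap (A ⧸ q) (FractionRing (A ⧸ q)) a =
                algebraMap (A ⧸ q) (FractionRing (A ⧸ q)) s * x} ∧
        Module.Finite (A ⧸ q) B' := by
  have hJne : J ≠ ⊥ := by
    rintro rfl
    rw [Ideal.height_bot] at hJ2
    exact absurd hJ2 (by decide)
  have hfin : Module.Finite (A ⧸ q) (LocCoh.H J 1 (A ⧸ q)) := by
    rcases hA with ⟨R, _, _, hreg, f, hf⟩ | ⟨hU, hJap⟩
    · haveI := hreg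
      exact finite_H1_of_regular_quotient R (A ⧸ q) ((Ideal.Quotient.mk q).comp f)
        (Ideal.Quotient.mk_surjective.comp hf) J hJ2
    · have h1 : Algebra.FiniteType A (A ⧸ q) :=
        Algebra.FiniteType.of_surjective (Ideal.Quotient.mkₐ A q) Ideal.Quotient.mk_surjective
      haveI hfin : Module.Finite (A ⧸ q) (integralClosure (A ⧸ q) (FractionRing (A ⧸ q))) :=
        hJap (A ⧸ q) h1 (FractionRing (A ⧸ q)) inferInstance
      haveI : IsIntegrallyClosed (integralClosure (A ⧸ q) (FractionRing (A ⧸ q))) :=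
        integralClosure.isIntegrallyClosedOfFiniteExtension (FractionRing (A ⧸ q))
      exact finite_H1_of_normal_overring (A ⧸ q) (isUniversallyCatenary_quotient A hU q)
        (integralClosure (A ⧸ q) (FractionRing (A ⧸ q))) J hJ2
  exact ⟨secSubalgebra (A ⧸ q) J, coe_secSubalgebra _ _, finite_secSubalgebra _ _ hJne hfin⟩

end Main

end Groth.Agent.H58.PushC
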